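import Cfsg.Agent.H0.TC
set_option maxRecDepth 100000
namespace H0.TCG232
open H0
noncomputable def tS : Tr := (.leaf (nat_lit 0xffda985a18ffe4d6a219ffd6f77250ffddd5ba51ffe14a196cffe5177d6affe1679569ffde493567ffda48612effe196952cffddc6b52bffdac77529ffda249d94ffd27765abffda049999ffd2675daaffd9e495a9ffd2575596ffd9c491a8ffd2474d9bffd643b5d2ffced66d71ffd623b1d7ffcec66570ffd603ad6fffceb65dd4ffd5e3a96effcea655d9ffd6d5b0e9ffd6b5a8e8ffd695a0e7ffd67598e6ffd2f4b8afffd2d4b0aeffd2b4a8adffd294a0acffd1e2ad27ffcab55526ffd1c2a925ffcaa54d24ffce41ccedffc7346cecffce21c8ebffc72464eaffce93a071ffce739870ffcaf2b839ffcad2b038ffca60dcabffc37374aaffc6e00073ffc0029472ffc711c000ffc390e037))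
noncomputable def tJ : Tr := (.leaf (nat_lit 0x206211016420620101600030800018000070000700208000180000700007101642060010163206001016020602101602060110160206001016020600101602060010160206000000700008000070000800007000080000700008101602060010160206001016020600101602060000007000080000700008101602060010160206000000600000))
noncomputable def tQ : Tr := (.leaf (nat_lit 0x0))
noncomputable def tR : TC.WTr := (.node (.node (.node (.node (.leaf [0] 0 0 false) (.leaf [2] 1 0 false)) (.node (.leaf [2, 0, 2, 0, 2, 0, 2, 0, 2, 0, 2] 4 1 true) (.leaf [0, 1, 0, 2, 0, 1, 0, 2, 0, 1, 0] 5 3 false))) (.node (.node (.leaf [2, 0, 1, 0, 2, 0, 1, 0, 2, 0, 1] 5 2 false) (.leaf [1] 1 1 false)) (.node (.leaf [0, 1, 0, 1, 0, 1, 0, 1, 0, 1, 0] 4 1 false) (.leaf [1] 1 1 false)))) (.node (.node (.node (.leaf [1, 0, 1, 0, 1, 0, 1, 0, 1, 0, 1] 4 0 false) (.leaf [2] 1 0 false)) (.node (.leaf [2] 1 0 false) (.leaf [0, 2, 0, 2, 0, 2, 0, 2, 0, 2, 0] 4 0 true)))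 (.node (.node (.leaf [1, 0, 2, 0, 1, 0, 2, 0, 1, 0, 2] 5 0 false) (.leaf [2, 2] 3 0 true)) (.leaf [1, 1] 3 0 false))))
def hl : List ℕ := []
def B : List (List ℕ) := [[0, 0], [1, 2], [2, 1], [1, 1, 1], [0, 1, 0, 1, 0, 1, 0, 1, 0, 1, 0, 1], [0, 1, 0, 2, 0, 1, 0, 2, 0, 1, 0, 2], [0, 2, 0, 2, 0, 2, 0, 2, 0, 2, 0, 2]]
def subs : List (List ℕ) := []
def ex : List (List ℕ) := []
def inv (x : ℕ) : ℕ := [0, 2, 1].getD x 0
noncomputable def rS : ℕ → ℕ := rowOf tS (nat_lit 9) (nat_lit 511) (nat_lit 40) (nat_lit 1099511627775)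
noncomputable def rJ : ℕ → ℕ := rowOf tJ (nat_lit 9) (nat_lit 511) (nat_lit 20) (nat_lit 1048575)
noncomputable def C : TC.Cfg where
  S := look rS (nat_lit 10) (nat_lit 1023)
  J := look rJ (nat_lit 4) (nat_lit 15)
  Q := lookQ tQ (nat_lit 9) (nat_lit 1) (nat_lit 1)
  R := tR.get
  hl := fun x => hl.contains x
  n := (nat_lit 54)
  M := (nat_lit 54)
  top := (nat_lit 648)
  nl := (nat_lit 3)
  need := (nat_lit 3)
  nr := (nat_lit 5)
theorem k0 : TC.chkRange C 0 1 = true := by decide +kernel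
theorem rows0 : ∀ c < (0 + 1) * 64, c < C.M → TC.chkRow C c = true :=
  TC.rows_step (TC.rows_zero C) k0
theorem main {G : Type*} [Group G] (g : ℕ → G) (hB : ∀ r ∈ B, ev g r = 1) (H : Subgroup G)
    (hH : ∀ w ∈ subs, ev g w ∈ H) :
    H.relIndex (Subgroup.closure (g '' {x | x < 3})) ≠ 0 ∧
      H.relIndex (Subgroup.closure (g '' {x | x < 3})) ≤ 54 :=
  TC.index_le C B subs ex inv hl tR.hint rfl (by decide +kernel) (by decide +kernel)
    (TC.rows_done rows0 (by decide +kernel)) g hB H hH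
end H0.TCG232
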